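import Mathlib

/-!
# An involution whose centraliser has constant fixity: the count

For a 2-transitive group, every element interchanging two points is then conjugate to the involution;
in particular a two-point stabiliser is inverted by its swappers.
-/

set_option autoImplicit false
set_option linter.unusedSectionVars false
set_option linter.style.haveILetI false

namespace Cfsg.Agent.Involutions.ConstantFixity

open MulAction

variable {G Ω : Type*} [Group G] [MulAction G Ω]

/-- The number of fixed points. -/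
noncomputable def fx (Ω : Type*) {G : Type*} [Group G] [MulAction G Ω] (g : G) : ℕ :=
  (MulAction.fixedBy Ω g).ncard

/-- `t` is an involution with `i` fixed points, as is every non-trivial element commuting with it. -/
structure Fixity (Ω : Type*) {G : Type*} [Group G] [MulAction G Ω] (t : G) (i : ℕ) : Prop where
  two : IsMultiplyPretransitive G Ω 2
  ord : orderOf t = 2
  fix_t : fx Ω t = i
  cent : ∀ g : G, Commute g t → g ≠ 1 → fx Ω g = i

theorem fx_conj (g h : G) : fx Ω (g * h * g⁻¹) = fx Ω h := by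
  have e : MulAction.fixedBy Ω (g * h * g⁻¹) = (g • ·) '' MulAction.fixedBy Ω h := by
    ext x
    simp only [MulAction.mem_fixedBy, Set.mem_image, mul_smul]
    refine ⟨fun hx => ⟨g⁻¹ • x, ?_, smul_inv_smul g x⟩, ?_⟩
    · exact smul_left_cancel g (by rw [hx, smul_inv_smul])
    · rintro ⟨y, hy, rfl⟩
      rw [inv_smul_smul, hy]
  rw [fx, e, Set.ncard_image_of_injective _ (MulAction.injective g)]
  rfl

theorem card_eq_mul {X : Type*} [Finite G] (f : G → X) (hf : Function.Surjective f) (S : Subgroup G)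
    (hS : ∀ g g' : G, f g = f g' ↔ g⁻¹ * g' ∈ S) : Nat.card G = Nat.card X * Nat.card S := by
  choose r hr using hf
  rw [← Nat.card_prod]
  refine (Nat.card_eq_of_bijective (fun p : X × S => r p.1 * p.2) ⟨?_, ?_⟩).symm
  · rintro ⟨x, s⟩ ⟨x', s'⟩ e
    have e' : r x * (s : G) = r x' * (s' : G) := e
    have hxx : x = x' := by
      rw [← hr x, ← hr x', hS]
      have h1 : (r x)⁻¹ * r x' = (s : G) * (s' : G)⁻¹ := by
        rw [eq_mul_inv_iff_mul_eq, mul_assoc, ← e', inv_mul_cancel_left]
      rw [h1]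
      exact mul_mem s.2 (inv_mem s'.2)
    subst hxx
    exact Prod.ext rfl (Subtype.ext (mul_left_cancel e'))
  · intro g
    have hg : (r (f g))⁻¹ * g ∈ S := (hS _ _).1 (hr (f g))
    exact ⟨(f g, ⟨_, hg⟩), mul_inv_cancel_left _ _⟩

variable {t : G} {i : ℕ} (h : Fixity Ω t i)
include h

theorem Fixity.ne_one : t ≠ 1 := fun e => by
  have := h.ord
  rw [e, orderOf_one] at this
  exact one_ne_zero (Nat.succ.inj this).symm

theorem Fixity.mul_self : t * t = 1 := by rw [← sq, ← h.ord, pow_orderOf_eq_one]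

theorem Fixity.conj (g : G) : Fixity Ω (g * t * g⁻¹) i where
  two := h.two
  ord := (MulEquiv.orderOf_eq (MulAut.conj g) t).trans h.ord
  fix_t := (fx_conj g t).trans h.fix_t
  cent x hx hx1 := by
    rw [← fx_conj g⁻¹ x]
    refine h.cent _ ?_ fun e => hx1 (conj_eq_one_iff.1 e)
    show g⁻¹ * x * g⁻¹⁻¹ * t = t * (g⁻¹ * x * g⁻¹⁻¹)
    calc g⁻¹ * x * g⁻¹⁻¹ * t = g⁻¹ * (x * (g * t * g⁻¹)) * g := by group
      _ = g⁻¹ * ((g * t * g⁻¹) * x) * g := by rw [hx.eq]
      _ = _ := by group

theorem Fixity.of_isConj {s : G} (hs : IsConj t s) : Fixity Ω s i := by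
  obtain ⟨g, rfl⟩ := isConj_iff.1 hs
  exact h.conj g

theorem Fixity.exists_map {a b c d : Ω} (hab : a ≠ b) (hcd : c ≠ d) :
    ∃ g : G, g • a = c ∧ g • b = d := is_two_pretransitive_iff.1 h.two hab hcd

/-- An element with a power equal to a conjugate of `t` has the same fixed points. -/
theorem Fixity.fix_of_pow [Finite Ω] {g : G} {m : ℕ} (hg : g ^ m = t) {x : Ω} (hx : t • x = x) :
    g • x = x := by
  have hsub : MulAction.fixedBy Ω g ⊆ MulAction.fixedBy Ω t := fun y hy => by
    have h1 : g ∈ stabilizer G y := hy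
    exact (hg ▸ pow_mem h1 m : t ∈ stabilizer G y)
  have hc : Commute g t := hg ▸ (Commute.refl g).pow_right m
  have hg1 : g ≠ 1 := fun e => h.ne_one (by rw [← hg, e, one_pow])
  have e := Set.eq_of_subset_of_ncard_le hsub (le_of_eq (h.fix_t.trans (h.cent g hc hg1).symm))
  exact (show x ∈ MulAction.fixedBy Ω g by rw [e]; exact hx)

/-- An element of odd order commuting with `t` fixes the fixed points of `t`. -/
theorem Fixity.fix_of_odd [Finite Ω] {g : G} (hg : Commute g t) (ho : Odd (orderOf g)) {x : Ω}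
    (hx : t • x = x) : g • x = x := by
  have e : (g * t) ^ orderOf g = t := by
    obtain ⟨k, hk⟩ := ho
    rw [hg.mul_pow, pow_orderOf_eq_one, one_mul, hk, pow_succ, pow_mul, sq, h.mul_self, one_pow,
      one_mul]
  have h1 := h.fix_of_pow e hx
  rwa [mul_smul, hx] at h1

variable [Finite G] [Fintype Ω] [FaithfulSMul G Ω]

theorem Fixity.exists_moved : ∃ x : Ω, t • x ≠ x := by
  by_contra hno
  push Not at hno
  exact h.ne_one (eq_of_smul_eq_smul (M := G) fun x : Ω => by rw [hno x, one_smul])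

theorem Fixity.lt : i < Nat.card Ω := by
  obtain ⟨x, hx⟩ := h.exists_moved
  rw [← h.fix_t, fx, ← Set.ncard_univ]
  exact Set.ncard_lt_ncard ⟨Set.subset_univ _, fun hsub => hx (hsub (Set.mem_univ x))⟩
    (Set.toFinite _)

/-- Burnside's count in the centraliser. -/
theorem Fixity.card_centralizer_dvd :
    Nat.card ↥(Subgroup.centralizer ({t} : Set G)) ∣ Nat.card Ω - i := by
  classical
  set C := Subgroup.centralizer ({t} : Set G) with hC
  haveI : Fintype C := Fintype.ofFinite C
  have hB := MulAction.sum_card_fixedBy_eq_card_orbits_mul_card_group C Ω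
  rw [← Finset.add_sum_erase _ _ (Finset.mem_univ (1 : C))] at hB
  have h1 : Fintype.card (MulAction.fixedBy Ω (1 : C)) = Nat.card Ω := by
    rw [← Nat.card_eq_fintype_card]
    exact Nat.card_congr (Equiv.subtypeUnivEquiv fun x => one_smul C x)
  have h2 : ∀ g ∈ Finset.univ.erase (1 : C), Fintype.card (MulAction.fixedBy Ω g) = i := fun g hg => by
    rw [← Nat.card_eq_fintype_card, Nat.card_coe_set_eq]
    exact h.cent (g : G) (Subgroup.mem_centralizer_singleton_iff.1 g.2)
      fun e => Finset.ne_of_mem_erase hg (Subtype.ext e)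
  rw [h1, Finset.sum_congr rfl h2, Finset.sum_const, Finset.card_erase_of_mem (Finset.mem_univ _),
    Finset.card_univ, smul_eq_mul, ← Nat.card_eq_fintype_card (α := C)] at hB
  set m := Fintype.card (Quotient (MulAction.orbitRel C Ω))
  have hpos : 0 < Nat.card C := Nat.card_pos
  obtain ⟨c, hc⟩ : ∃ c, Nat.card C = c + 1 := ⟨Nat.card C - 1, by omega⟩
  exact ⟨m - i, by
    rw [Nat.mul_sub, Nat.mul_comm _ m, ← hB, hc, Nat.add_sub_cancel, Nat.add_mul, one_mul,
      Nat.sub_add_eq, Nat.add_comm (Nat.card Ω), Nat.add_sub_cancel_left]⟩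

theorem Fixity.card_conj : Nat.card G =
    Nat.card {s : G // IsConj t s} * Nat.card ↥(Subgroup.centralizer ({t} : Set G)) := by
  refine card_eq_mul (fun g => (⟨g * t * g⁻¹, isConj_iff.2 ⟨g, rfl⟩⟩ : {s : G // IsConj t s}))
    (fun s => ?_) _ fun g g' => ?_
  · obtain ⟨g, hg⟩ := isConj_iff.1 s.2
    exact ⟨g, Subtype.ext hg⟩
  · simp only [Subtype.mk.injEq, Subgroup.mem_centralizer_singleton_iff]
    constructor
    · intro e
      calc g⁻¹ * g' * t = g⁻¹ * (g' * t * g'⁻¹) * g' := by group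
        _ = g⁻¹ * (g * t * g⁻¹) * g' := by rw [e]
        _ = _ := by group
    · intro e
      calc g * t * g⁻¹ = g * (t * (g⁻¹ * g')) * g'⁻¹ := by group
        _ = g * (g⁻¹ * g' * t) * g'⁻¹ := by rw [e]
        _ = _ := by group

theorem Fixity.card_pairs {a b : Ω} (hab : a ≠ b) : Nat.card G =
    Nat.card {p : Ω × Ω // p.1 ≠ p.2} * Nat.card ↥(stabilizer G a ⊓ stabilizer G b) := by
  refine card_eq_mul (fun g => (⟨(g • a, g • b), fun e => hab (smul_left_cancel g e)⟩ :
    {p : Ω × Ω // p.1 ≠ p.2})) (fun p => ?_) _ fun g g' => ?_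
  · obtain ⟨g, h1, h2⟩ := h.exists_map hab p.2
    exact ⟨g, Subtype.ext (Prod.ext h1 h2)⟩
  · simp only [Subtype.mk.injEq, Prod.mk.injEq, Subgroup.mem_inf, mem_stabilizer_iff, mul_smul,
      inv_smul_eq_iff]
    exact and_congr ⟨fun e => e.symm, fun e => e.symm⟩ ⟨fun e => e.symm, fun e => e.symm⟩

/-- Counting the moved points of the conjugates by pairs. -/
theorem Fixity.card_moved {a b : Ω} (hab : a ≠ b) :
    Nat.card {s : G // IsConj t s} * (Nat.card Ω - i) =
      Nat.card {p : Ω × Ω // p.1 ≠ p.2} * Nat.card {s : {s : G // IsConj t s} // (s : G) • a = b} := by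
  classical
  have h1 : ∀ s : {s : G // IsConj t s}, Nat.card {x : Ω // (s : G) • x ≠ x} = Nat.card Ω - i := by
    intro s
    rw [← (h.of_isConj s.2).fix_t, fx, ← Set.ncard_compl (MulAction.fixedBy Ω (s : G)),
      ← Nat.card_coe_set_eq]
    rfl
  have h2 : ∀ p : {p : Ω × Ω // p.1 ≠ p.2}, Nat.card {s : {s : G // IsConj t s} // (s : G) • p.1.1 = p.1.2} =
      Nat.card {s : {s : G // IsConj t s} // (s : G) • a = b} := by
    intro p
    obtain ⟨g, hga, hgb⟩ := h.exists_map p.2 hab
    refine Nat.card_congr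
      { toFun := fun s => ⟨⟨g * s.1.1 * g⁻¹, ?_⟩, ?_⟩
        invFun := fun s => ⟨⟨g⁻¹ * s.1.1 * g, ?_⟩, ?_⟩
        left_inv := fun s => Subtype.ext (Subtype.ext (by simp [mul_assoc]))
        right_inv := fun s => Subtype.ext (Subtype.ext (by simp [mul_assoc])) }
    · exact s.1.2.trans (isConj_iff.2 ⟨g, rfl⟩)
    · show (g * s.1.1 * g⁻¹) • a = b
      rw [← hga, mul_smul, mul_smul, inv_smul_smul, s.2, hgb]
    · exact s.1.2.trans (isConj_iff.2 ⟨g⁻¹, by rw [inv_inv]⟩)
    · show (g⁻¹ * s.1.1 * g) • p.1.1 = p.1.2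
      rw [mul_smul, mul_smul, hga, s.2, ← hgb, inv_smul_smul]
  haveI := Fintype.ofFinite G
  have e : (Σ s : {s : G // IsConj t s}, {x : Ω // (s : G) • x ≠ x}) ≃
      (Σ p : {p : Ω × Ω // p.1 ≠ p.2}, {s : {s : G // IsConj t s} // (s : G) • p.1.1 = p.1.2}) :=
    { toFun := fun u => ⟨⟨(u.2.1, (u.1 : G) • u.2.1), fun e => u.2.2 e.symm⟩, ⟨u.1, rfl⟩⟩
      invFun := fun u => ⟨u.2.1, ⟨u.1.1.1, fun e => u.1.2 (e.symm.trans u.2.2)⟩⟩
      left_inv := fun _ => rfl
      right_inv := fun ⟨⟨⟨x, y⟩, hxy⟩, ⟨s, hs⟩⟩ => by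
        change (s : G) • x = y at hs
        subst hs
        rfl }
  have e2 := Nat.card_congr e
  rw [Nat.card_sigma, Nat.card_sigma, Finset.sum_congr rfl fun s _ => h1 s,
    Finset.sum_congr rfl fun p _ => h2 p, Finset.sum_const, Finset.sum_const, smul_eq_mul, smul_eq_mul,
    Finset.card_univ, Finset.card_univ, ← Nat.card_eq_fintype_card, ← Nat.card_eq_fintype_card] at e2
  exact e2

/-- Every element interchanging two points is a conjugate of `t`. -/
theorem Fixity.swap_conj {a b : Ω} (hab : a ≠ b) :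
    (∀ g : G, g • a = b → g • b = a → IsConj t g) ∧ (∃ g : G, g • a = b ∧ g • b = a) ∧
      Nat.card ↥(Subgroup.centralizer ({t} : Set G)) = Nat.card Ω - i := by
  classical
  set D := stabilizer G a ⊓ stabilizer G b with hD
  set k := Nat.card {s : {s : G // IsConj t s} // (s : G) • a = b} with hk
  set P := Nat.card {p : Ω × Ω // p.1 ≠ p.2} with hP
  set c := Nat.card ↥(Subgroup.centralizer ({t} : Set G)) with hc
  have hpos : 0 < P := by
    have h1 := h.card_pairs hab
    rw [← hP] at h1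
    exact Nat.pos_of_mul_pos_right (h1 ▸ Nat.card_pos (α := G))
  have hkey : (Nat.card Ω - i) * Nat.card D = c * k := by
    refine Nat.eq_of_mul_eq_mul_left hpos ?_
    calc P * ((Nat.card Ω - i) * Nat.card D) = Nat.card G * (Nat.card Ω - i) := by
          rw [h.card_pairs hab]; ring
      _ = c * (Nat.card {s : G // IsConj t s} * (Nat.card Ω - i)) := by rw [h.card_conj]; ring
      _ = _ := by rw [h.card_moved hab]; ring
  have hswap : ∀ s : {s : G // IsConj t s}, (s : G) • a = b → (s : G) • b = a := fun s hs => by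
    rw [← hs, smul_smul, (h.of_isConj s.2).mul_self, one_smul]
  have hni : 0 < Nat.card Ω - i := Nat.sub_pos_of_lt h.lt
  have hk0 : k ≠ 0 := fun e0 => by
    rw [e0, mul_zero] at hkey
    exact absurd hkey (Nat.mul_pos hni Nat.card_pos).ne'
  haveI : Nonempty {s : {s : G // IsConj t s} // (s : G) • a = b} :=
    (Nat.card_pos_iff.1 (Nat.pos_of_ne_zero hk0)).1
  obtain ⟨⟨s₀, hs₀⟩⟩ := this
  let φ : {s : {s : G // IsConj t s} // (s : G) • a = b} → D := fun s =>
    ⟨(s₀ : G) * (s.1 : G), by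
      constructor
      · show ((s₀ : G) * (s.1 : G)) • a = a
        rw [mul_smul, s.2, hswap s₀ hs₀]
      · show ((s₀ : G) * (s.1 : G)) • b = b
        rw [mul_smul, hswap s.1 s.2, hs₀]⟩
  have hφ : Function.Injective φ := fun s s' e =>
    Subtype.ext (Subtype.ext (mul_left_cancel (congrArg Subtype.val e)))
  have hle : k ≤ Nat.card D := Nat.card_le_card_of_injective φ hφ
  have hcle : c ≤ Nat.card Ω - i := Nat.le_of_dvd hni h.card_centralizer_dvd
  have hkD : k = Nat.card D := by
    refine le_antisymm hle (Nat.le_of_mul_le_mul_left ?_ hni)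
    rw [hkey]
    exact Nat.mul_le_mul_right k hcle
  refine ⟨fun g hga hgb => ?_, ⟨s₀, hs₀, hswap s₀ hs₀⟩, ?_⟩
  · obtain ⟨s, hs⟩ := ((Nat.bijective_iff_injective_and_card φ).2 ⟨hφ, hkD⟩).2 ⟨(s₀ : G) * g, by
      constructor
      · show ((s₀ : G) * g) • a = a
        rw [mul_smul, hga, hswap s₀ hs₀]
      · show ((s₀ : G) * g) • b = b
        rw [mul_smul, hgb, hs₀]⟩
    have e : (s.1 : G) = g := mul_left_cancel (congrArg Subtype.val hs)
    exact e ▸ s.1.2
  · rw [← hkD] at hkey
    exact (Nat.eq_of_mul_eq_mul_right (Nat.pos_of_ne_zero hk0) hkey).symm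

/-- A swapper inverts the stabiliser of its two points. -/
theorem Fixity.swap_inverts {a b : Ω} (hab : a ≠ b) {u : G} (hua : u • a = b) (hub : u • b = a) {d : G}
    (hda : d • a = a) (hdb : d • b = b) : u * u = 1 ∧ u * d * u⁻¹ = d⁻¹ := by
  have hu := (h.of_isConj ((h.swap_conj hab).1 u hua hub)).mul_self
  have hud := (h.of_isConj ((h.swap_conj hab).1 (u * d) (by rw [mul_smul, hda, hua])
    (by rw [mul_smul, hdb, hub]))).mul_self
  refine ⟨hu, ?_⟩
  rw [inv_eq_of_mul_eq_one_left hu, eq_inv_iff_mul_eq_one]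
  calc u * d * u * d = u * d * (u * d) := by group
    _ = 1 := hud

theorem Fixity.comm_two {a b : Ω} (hab : a ≠ b) {d e : G} (hda : d • a = a) (hdb : d • b = b)
    (hea : e • a = a) (heb : e • b = b) : Commute d e := by
  obtain ⟨u, hua, hub⟩ := (h.swap_conj hab).2.1
  have h1 := (h.swap_inverts hab hua hub hda hdb).2
  have h2 := (h.swap_inverts hab hua hub hea heb).2
  have h3 := (h.swap_inverts hab hua hub (d := d * e) (by rw [mul_smul, hea, hda])
    (by rw [mul_smul, heb, hdb])).2
  rw [show u * (d * e) * u⁻¹ = (u * d * u⁻¹) * (u * e * u⁻¹) by group, h1, h2, ← _root_.mul_inv_rev,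
    inv_inj] at h3
  exact h3.symm

theorem Fixity.isConj_involution {s : G} (hs : orderOf s = 2) : IsConj t s := by
  have hs1 : s ≠ 1 := fun e => by rw [e, orderOf_one] at hs; exact absurd hs (by norm_num)
  obtain ⟨x, hx⟩ : ∃ x : Ω, s • x ≠ x := by
    by_contra hno
    push Not at hno
    exact hs1 (eq_of_smul_eq_smul (M := G) fun x : Ω => by rw [hno x, one_smul])
  exact (h.swap_conj (fun e : x = s • x => hx e.symm)).1 s rfl
    (by rw [smul_smul, ← sq, ← hs, pow_orderOf_eq_one, one_smul])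

end Cfsg.Agent.Involutions.ConstantFixity
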