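import Cfsg.Agent.Lib.Involutions.ConstantFixity.Small
import Cfsg.Agent.Lib.Classical.UnitaryFrames
import Cfsg.Agent.Lib.Perm.Sharp
import Cfsg.Agent.S0339
import Cfsg.Agent.S0340
import Cfsg.Agent.S0741
import Cfsg.Agent.S1136

/-!
# An involution whose centraliser has constant fixity: the Zassenhaus groups
-/

set_option autoImplicit false
set_option linter.unusedSectionVars false
set_option linter.style.haveILetI false

namespace Cfsg.Agent.Involutions.ConstantFixity

open MulAction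

/-- `PSU₃(2^n)` has order divisible by three. -/
theorem three_dvd_card_psu {F : Type} [Field F] [Fintype F] {n : ℕ} (hn : 1 ≤ n)
    (hF : Fintype.card F = (2 ^ n) ^ 2) : 3 ∣ Nat.card (Cfsg.PSU 3 F (2 ^ n)) := by
  set q := 2 ^ n with hq
  have hq2 : 2 ≤ q := Nat.le_self_pow (by omega) 2
  have h1 := Cfsg.Agent.Classical.Unitary.natCard_PSU_mul hF (n := 3) (by norm_num)
  rw [Cfsg.Agent.Classical.Unitary.natCard_GU hF] at h1
  simp only [Finset.prod_range_succ, Finset.prod_range_zero, one_mul, Nat.even_iff,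
    Nat.reduceMod, Nat.reduceAdd, Nat.reduceMul, Nat.reduceSub, Nat.reduceDiv, if_true,
    one_ne_zero, if_false, pow_one] at h1
  have key : Nat.gcd 3 (q + 1) * Nat.card (Cfsg.PSU 3 F q) = q ^ 3 * ((q ^ 2 - 1) * (q ^ 3 + 1)) :=
    Nat.eq_of_mul_eq_mul_left (show 0 < q + 1 by omega) (by linear_combination h1)
  obtain ⟨r, hr⟩ : ∃ r, q = r + 1 := ⟨q - 1, by omega⟩
  have hsq : q ^ 2 - 1 = r * (q + 1) := by
    rw [hr]; exact Nat.sub_eq_of_eq_add (by ring)
  have hnd : ¬ 3 ∣ q := fun hd => by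
    have h2 := (Nat.prime_dvd_prime_iff_eq Nat.prime_three Nat.prime_two).1
      (Nat.prime_three.dvd_of_dvd_pow (hq ▸ hd))
    norm_num at h2
  by_cases h3 : 3 ∣ q + 1
  · rw [Nat.gcd_eq_left h3] at key
    obtain ⟨u, hu⟩ := h3
    obtain ⟨r', hr'⟩ : ∃ r', q ^ 3 + 1 = (q + 1) * r' := ⟨q ^ 2 - r, by
      have hle : r ≤ q ^ 2 := by rw [hr]; nlinarith
      zify [hle]
      rw [hr]; push_cast; ring⟩
    refine ⟨q ^ 3 * (r * u * (u * r')), Nat.eq_of_mul_eq_mul_left (show 0 < 3 by norm_num) ?_⟩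
    rw [key, hsq, hr', hu]
    ring
  · rw [(Nat.prime_three.coprime_iff_not_dvd.2 h3).gcd_eq_one, one_mul] at key
    rw [key, hsq]
    have h4 : 3 ∣ r := by omega
    exact (((h4.mul_right _).mul_right _).mul_left _)

universe u v

/-- A simple Zassenhaus group is `PSL₂` or a Suzuki group. -/
theorem zassenhaus_iso {G : Type u} {Ω : Type v} [Group G] [Finite G] [MulAction G Ω] [Fintype Ω]
    (hZ : Cfsg.IsZassenhausGroup G Ω) [IsSimpleGroup G] :
    (∃ (F : Type) (_ : Field F) (_ : Fintype F), Nonempty (G ≃* Matrix.ProjectiveSpecialLinearGroup (Fin 2) F)) ∨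
      Cfsg.Lie.IsoSuzuki G := by
  classical
  haveI := Fintype.ofFinite G
  haveI := hZ.1
  rcases S0340.result hZ with hp | hsuz
  · exact Or.inl hp
  obtain ⟨g, -, a, b, hab, -, -⟩ := hZ.2.2.2.1
  rcases Nat.even_or_odd (Nat.card ↥(MulAction.stabilizer G a ⊓ MulAction.stabilizer G b)) with he | ho
  · obtain ⟨F, i1, i2, -, hiso⟩ := S0344.result hZ hab he
    exact Or.inl ⟨F, i1, i2, hiso⟩
  obtain ⟨H, hc⟩ := CharTheory.Zassenhaus.exists_config hZ hab
  -- the order of a Suzuki group forces the nonabelian case or a small one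
  obtain ⟨-, m, hm, hcard⟩ := hsuz
  have h3G : ¬ 3 ∣ Nat.card G := by
    rw [hcard]
    have hq : (2 : ℕ) ^ (2 * m + 1) % 3 = 2 := by rw [pow_succ, pow_mul, Nat.mul_mod, Nat.pow_mod]; norm_num
    obtain ⟨w, hw⟩ : ∃ w, 2 ^ (2 * m + 1) = 3 * w + 2 := ⟨2 ^ (2 * m + 1) / 3, by omega⟩
    rw [hw, show 3 * w + 2 - 1 = 3 * w + 1 by omega]
    intro hd
    rcases Nat.prime_three.dvd_mul.1 hd with hd | hd
    · rcases Nat.prime_three.dvd_mul.1 hd with hd | hd
      · have := Nat.prime_three.dvd_of_dvd_pow hd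
        omega
      · rw [show (3 * w + 2) ^ 2 + 1 = 3 * (3 * w ^ 2 + 4 * w + 1) + 2 by ring] at hd
        omega
    · omega
  have hGcard := CharTheory.Zassenhaus.card_group' hc
  rcases CharTheory.Zassenhaus.feit_all _ G Ω a b H rfl hc ho with hsmall | ⟨h2, hna, -⟩
  · -- `|H| ≤ 2 |D| + 1`
    refine absurd ?_ h3G
    have hn := Involutions.Suzuki.Zass.normal_kernel hc
    have hreg := Involutions.Suzuki.Zass.regular_kernel hc
    have hcardH := hc.card
    obtain ⟨hcomm, -⟩ := S0738.result hZ hab (by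
      show Fintype.card Ω - 2 ≤ 2 * Nat.card ↥(CharTheory.Zassenhaus.two (G := G) a b)
      omega) H hc.le hn hreg
    have hF := Perm.Zassenhaus.frame_of_zass hZ hab H hc.le hn hcomm hreg
    obtain ⟨k, hk⟩ : Nat.card ↥(CharTheory.Zassenhaus.two (G := G) a b) ∣ Nat.card H - 1 := hF.card_dvd
    have h3 := Cfsg.Agent.CharactersDeep.Zassenhaus.three_le_card hZ
    set d := Nat.card ↥(CharTheory.Zassenhaus.two (G := G) a b)
    have hdpos : 0 < d := Nat.card_pos
    rw [hGcard]
    have hk2 : k = 1 ∨ k = 2 := by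
      rcases k with _ | _ | _ | k
      · rw [mul_zero] at hk; omega
      · exact Or.inl rfl
      · exact Or.inr rfl
      · exfalso
        have h4 : d * 3 ≤ d * (k + 3) := Nat.mul_le_mul_left _ (by omega)
        rw [show k + 1 + 1 + 1 = k + 3 from rfl] at hk
        have hs : Nat.card H - 1 ≤ 2 * d := hsmall
        omega
    obtain ⟨h, hh⟩ : ∃ h, Nat.card H = h + 1 := ⟨Nat.card H - 1, by omega⟩
    rw [hh, Nat.add_sub_cancel] at hk
    rcases hk2 with rfl | rfl <;> rw [hh, hk]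
    · -- three consecutive numbers
      refine Nat.dvd_of_mod_eq_zero ?_
      have : d % 3 = 0 ∨ d % 3 = 1 ∨ d % 3 = 2 := by omega
      rcases this with e | e | e <;> simp [Nat.add_mod, Nat.mul_mod, e]
    · refine Nat.dvd_of_mod_eq_zero ?_
      have : d % 3 = 0 ∨ d % 3 = 1 ∨ d % 3 = 2 := by omega
      rcases this with e | e | e <;> simp [Nat.add_mod, Nat.mul_mod, e]
  have hh := Involutions.Suzuki.Zass.hyp_of_nonab hc h2 hna
  obtain ⟨s, hs, hsa, hsb⟩ := CharTheory.Zassenhaus.exists_swap hc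
  have hS : Cfsg.IsRankOneSetup G Ω a s H :=
    { two_transitive := hZ.2.1
      mul_self := CharTheory.Zassenhaus.inv_mul_self hs
      ne_one := fun e => hab (by rw [e, one_smul] at hsa; exact hsa)
      not_mem := fun e => hab ((show s • a = a from e).symm.trans hsa)
      le := hc.le
      conj_mem := fun h hh' x hx => CharTheory.Zassenhaus.conj_mem hc hh' hx
      inf_eq_bot := by
        rw [hsa]
        refine (Subgroup.eq_bot_iff_forall _).2 fun x hx => ?_
        by_contra hx1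
        exact hab (hc.fix x hx.1 hx1 b hx.2).symm
      sup_eq := by
        rw [hsa]
        refine le_antisymm (sup_le hc.le inf_le_left) fun h hh' => ?_
        have hb : h • b ≠ a := fun e => hab (smul_left_cancel h (hh'.trans e.symm))
        obtain ⟨u, hu, hub⟩ := CharTheory.Zassenhaus.exists_mem_smul hc hb
        rw [← mul_inv_cancel_left u h]
        refine Subgroup.mul_mem_sup hu (Subgroup.mem_inf.2 ⟨mul_mem (inv_mem (hc.le hu)) hh', ?_⟩)
        show (u⁻¹ * h) • b = b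
        rw [mul_smul, ← hub, inv_smul_smul]
      even_card := by
        obtain ⟨k, hk⟩ := IsPGroup.iff_card.1 h2
        rw [hk, Nat.even_pow]
        refine ⟨even_two, fun e => ?_⟩
        rw [e, pow_zero] at hk
        obtain ⟨x, y, hxy⟩ := hna
        haveI := (Nat.card_eq_one_iff_unique.1 hk).1
        exact hxy (Subsingleton.elim _ _)
      odd_card := by rw [hsa]; exact ho }
  have h2' : ∃ x y : G, x ≠ 1 ∧ y ≠ 1 ∧ x ≠ y ∧ x * x = 1 ∧ y * y = 1 ∧ x * y = y * x := by
    obtain ⟨n, -, hn, -, -, hV⟩ := Involutions.Suzuki.Zass.main hh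
    have hV' : 4 ≤ Nat.card (Involutions.Suzuki.Zass.V hh) := by
      rw [hV]
      calc 4 = 2 ^ 2 := by norm_num
        _ ≤ 2 ^ n := Nat.pow_le_pow_right (by norm_num) (by omega)
    haveI := Fintype.ofFinite (Involutions.Suzuki.Zass.V hh)
    rw [Nat.card_eq_fintype_card] at hV'
    obtain ⟨x, hx⟩ := Fintype.exists_ne_of_one_lt_card (by omega) (1 : Involutions.Suzuki.Zass.V hh)
    obtain ⟨y, hy⟩ : ∃ y : Involutions.Suzuki.Zass.V hh, y ∉ ({1, x} : Finset _) := by
      by_contra hall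
      push Not at hall
      have h4 := Finset.card_le_card (fun z _ => hall z :
        (Finset.univ : Finset (Involutions.Suzuki.Zass.V hh)) ⊆ {1, x})
      rw [Finset.card_univ] at h4
      have h5 := Finset.card_le_two (a := (1 : Involutions.Suzuki.Zass.V hh)) (b := x)
      omega
    simp only [Finset.mem_insert, Finset.mem_singleton, not_or] at hy
    exact ⟨x, y, fun e => hx (Subtype.ext e), fun e => hy.1 (Subtype.ext e),
      fun e => hy.2 (Subtype.ext e.symm), x.2.2, y.2.2,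
      Involutions.Suzuki.Zass.inv_central hh x.2.1 x.2.2 y.2.1⟩
  obtain ⟨L, hLn, hLo, hL⟩ := S1136.result hS h2'
  have hLtop : L = ⊤ := Involutions.RankOne.Cons.eq_top_of_odd_index hLn hLo
    (hS.even_card.trans_dvd (Subgroup.card_subgroup_dvd_card H))
  let e : G ≃* L := (Subgroup.topEquiv.symm).trans (MulEquiv.subgroupCongr hLtop.symm)
  rcases hL with ⟨F, i1, i2, -, ⟨f⟩⟩ | ⟨F, i1, i2, m', hm', hF, ⟨f⟩⟩ | ⟨F, i1, i2, n, hn, hF, ⟨f⟩⟩
  · exact Or.inl ⟨F, i1, i2, ⟨e.trans f⟩⟩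
  · exact Or.inr ⟨F, i1, i2, m', hm', hF, ⟨e.trans f⟩⟩
  · refine absurd ?_ h3G
    rw [Nat.card_congr (e.trans f).toEquiv]
    exact three_dvd_card_psu (by omega) hF

variable {G : Type u} {Ω : Type v} [Group G] [Finite G] [MulAction G Ω] [Fintype Ω] [FaithfulSMul G Ω]
  {t : G} {i : ℕ} (h : Fixity Ω t i)
include h

/-- The conclusion of S3726. -/
theorem Fixity.classify :
    (∃ (F : Type) (_ : Field F) (_ : Fintype F), Nonempty (G ≃* Matrix.ProjectiveSpecialLinearGroup (Fin 2) F)) ∨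
    Cfsg.Lie.IsoSuzuki G ∨
    (∃ R : Subgroup G, R.Normal ∧ (∀ x y : Ω, ∃ r ∈ R, r • x = y) ∧ ∀ x : Ω, ∀ r ∈ R, r • x = x → r = 1) := by
  classical
  have hreg : ∀ N : Subgroup G, N.Normal → IsPretransitive N Ω → (∀ x : Ω, stabilizer N x = ⊥) →
      ∃ R : Subgroup G, R.Normal ∧ (∀ x y : Ω, ∃ r ∈ R, r • x = y) ∧ ∀ x : Ω, ∀ r ∈ R, r • x = x → r = 1 :=
    fun N hN htr hst => ⟨N, hN, fun x y => by
      obtain ⟨r, hr⟩ := htr.exists_smul_eq x y
      exact ⟨r, r.2, hr⟩, fun x r hr hrx => by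
      have h1 : (⟨r, hr⟩ : N) ∈ stabilizer N x := hrx
      rw [hst x, Subgroup.mem_bot] at h1
      exact congrArg Subtype.val h1⟩
  by_cases hno : NoRegular Ω G
  swap
  · simp only [NoRegular, not_forall, not_exists, not_not] at hno
    obtain ⟨N, hN, htr, hst⟩ := hno
    exact Or.inr (Or.inr (hreg N hN htr hst))
  have h3 : ∀ g : G, ∀ a b c : Ω, a ≠ b → b ≠ c → a ≠ c → g • a = a → g • b = b → g • c = c → g = 1 :=
    fun g a b c hab hbc hac ha hb hc => h.three_trivial hno hab hbc hac ha hb hc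
  obtain ⟨x₀, hx₀⟩ := h.exists_moved
  haveI : Nontrivial Ω := ⟨⟨_, _, hx₀⟩⟩
  by_cases hfix : ∃ g : G, g ≠ 1 ∧ ∃ a b : Ω, a ≠ b ∧ g • a = a ∧ g • b = b
  swap
  · push Not at hfix
    obtain ⟨N, hN, -, htr, hst, -⟩ := Perm.Sharp.exists_kernel (G := G) (α := Ω) h.two fun x =>
      (Subgroup.eq_bot_iff_forall _).2 fun g hg => by
        by_contra hg1
        have hx : ∀ j, g • x j = x j := fun j => by
          conv_rhs => rw [← show g • x = x from hg]
          rfl
        exact hfix g hg1 (x 0) (x 1) (x.injective.ne (by decide)) (hx 0) (hx 1)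
    exact Or.inr (Or.inr (hreg N hN htr hst))
  have hZ : Cfsg.IsZassenhausGroup G Ω := ⟨inferInstance, h.two, h3, hfix, hno⟩
  obtain ⟨a, b, hab⟩ := exists_pair_ne Ω
  haveI : Nontrivial G := ⟨⟨t, 1, h.ne_one⟩⟩
  haveI : IsSimpleGroup G := by
    refine { eq_bot_or_eq_top_of_normal := fun N hN => or_iff_not_imp_left.2 fun hN1 => ?_ }
    haveI := hN
    have hZN := S0339.result hZ N hN1
    obtain ⟨u, hua, hub⟩ := is_two_pretransitive_iff.1 hZN.2.1 hab hab.symm
    have hconj : ∀ {x y : Ω} (g : G), x ≠ y → g • x = y → g • y = x → g ∈ N := fun {x y} g hxy hx hy => by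
      obtain ⟨c, hc⟩ := isConj_iff.1 (((h.swap_conj hab).1 u hua hub).symm.trans ((h.swap_conj hxy).1 g hx hy))
      exact hc ▸ hN.conj_mem u u.2 c
    have hD : ∀ d : G, d • a = a → d • b = b → d ∈ N := fun d hda hdb => by
      have h1 := hconj ((u : G) * d) hab (by rw [mul_smul, hda]; exact hua) (by rw [mul_smul, hdb]; exact hub)
      exact (mul_mem_cancel_left u.2).1 h1
    refine eq_top_iff.2 fun g _ => ?_
    obtain ⟨m, hma, hmb⟩ := is_two_pretransitive_iff.1 hZN.2.1 hab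
      (show g • a ≠ g • b from fun e => hab (smul_left_cancel g e))
    have h2 := hD ((m : G)⁻¹ * g) (by rw [mul_smul, inv_smul_eq_iff]; exact hma.symm)
      (by rw [mul_smul, inv_smul_eq_iff]; exact hmb.symm)
    exact (mul_mem_cancel_left (inv_mem m.2)).1 h2
  rcases zassenhaus_iso hZ with hp | hs
  · exact Or.inl hp
  · exact Or.inr (Or.inl hs)

end Cfsg.Agent.Involutions.ConstantFixity
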