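import Cfsg.Agent.Lib.Involutions.ConstantFixity.Count
import Cfsg.Agent.Lib.Involutions.RankOne.ConsBase
import Cfsg.Agent.S0205

/-!
# An involution whose centraliser has constant fixity: at most two fixed points
-/

set_option autoImplicit false
set_option linter.unusedSectionVars false
set_option linter.style.haveILetI false

namespace Cfsg.Agent.Involutions.ConstantFixity

open MulAction

variable {G Ω : Type*} [Group G] [Finite G] [MulAction G Ω] [Fintype Ω] [FaithfulSMul G Ω]

/-- No normal subgroup is regular. -/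
def NoRegular (Ω G : Type*) [Group G] [MulAction G Ω] : Prop :=
  ∀ N : Subgroup G, N.Normal → IsPretransitive N Ω → ∃ x : Ω, stabilizer N x ≠ ⊥

theorem abelian_normal_eq_bot (h2 : IsMultiplyPretransitive G Ω 2) (hno : NoRegular Ω G)
    {N : Subgroup G} (hN : N.Normal) (hab : ∀ x ∈ N, ∀ y ∈ N, x * y = y * x) : N = ⊥ := by
  by_contra hne
  haveI := hN
  haveI := isPreprimitive_of_is_two_pretransitive h2
  have htr : IsPretransitive N Ω := by
    refine IsQuasiPreprimitive.isPretransitive_of_normal (G := G) fun e => hne ?_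
    refine (Subgroup.eq_bot_iff_forall _).2 fun x hx => eq_of_smul_eq_smul (M := G) fun c : Ω => ?_
    have hc : c ∈ fixedPoints N Ω := e ▸ Set.mem_univ c
    rw [one_smul]
    exact hc ⟨x, hx⟩
  obtain ⟨x, hx⟩ := hno N hN htr
  refine hx ((Subgroup.eq_bot_iff_forall _).2 fun u hu => Subtype.ext (eq_of_smul_eq_smul (M := G) fun c : Ω => ?_))
  obtain ⟨v, rfl⟩ := htr.exists_smul_eq x c
  show (u : G) • (v : G) • x = (1 : G) • (v : G) • x
  rw [one_smul, smul_smul, hab _ u.2 _ v.2, mul_smul]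
  exact congrArg ((v : G) • ·) hu

theorem oddCore_eq_bot (h2 : IsMultiplyPretransitive G Ω 2) (hno : NoRegular Ω G) :
    Cfsg.oddCore G = ⊥ := by
  classical
  haveI : Fintype (Subgroup G) := Fintype.ofFinite _
  by_contra hne
  set 𝒮 := Finset.univ.filter fun K : Subgroup G => K.Normal ∧ K ≠ ⊥ ∧ K ≤ Cfsg.oddCore G with h𝒮
  obtain ⟨N, hN, hmin⟩ := 𝒮.exists_minimal ⟨Cfsg.oddCore G, Finset.mem_filter.2 ⟨Finset.mem_univ _,
    inferInstance, hne, le_rfl⟩⟩
  obtain ⟨-, hNn, hN1, hNle⟩ := Finset.mem_filter.1 hN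
  haveI := hNn
  haveI : Group.IsSolvable N := Cfsg.Agent.S0205.result
    (Odd.of_dvd_nat Agent.InvChar.Core.odd_card_oddCore (Subgroup.card_dvd_of_le hNle))
  haveI : Nontrivial N := (Subgroup.nontrivial_iff_ne_bot N).2 hN1
  have hlt : ⁅N, N⁆ < N := by
    have h1 := Group.IsSolvable.commutator_lt_top_of_nontrivial (G := N)
    rw [← Subgroup.map_subtype_lt_map_subtype, ← MonoidHom.range_eq_map, Subgroup.range_subtype,
      Subgroup.map_subtype_commutator] at h1
    exact h1
  have hbot : ⁅N, N⁆ = ⊥ := by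
    by_contra hne'
    exact hlt.not_ge (hmin (Finset.mem_filter.2 ⟨Finset.mem_univ _, inferInstance, hne',
      hlt.le.trans hNle⟩) hlt.le)
  refine hN1 (abelian_normal_eq_bot h2 hno hNn fun x hx y hy => ?_)
  exact commutatorElement_eq_one_iff_mul_comm.1 (Subgroup.mem_bot.1
    (hbot ▸ Subgroup.commutator_mem_commutator hx hy))

theorem card_pairs_eq : Nat.card {p : Ω × Ω // p.1 ≠ p.2} = Nat.card Ω * (Nat.card Ω - 1) := by
  classical
  rw [Nat.card_congr (show {p : Ω × Ω // p.1 ≠ p.2} ≃ Σ x : Ω, {y : Ω // x ≠ y} from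
    { toFun := fun p => ⟨p.1.1, p.1.2, p.2⟩
      invFun := fun u => ⟨(u.1, u.2.1), u.2.2⟩
      left_inv := fun _ => rfl
      right_inv := fun _ => rfl }), Nat.card_sigma,
    Finset.sum_congr rfl fun x _ => show Nat.card {y : Ω // x ≠ y} = Nat.card Ω - 1 by
      rw [Nat.card_eq_fintype_card, Nat.card_eq_fintype_card, Fintype.card_subtype_compl,
        Fintype.card_subtype_eq'], Finset.sum_const, smul_eq_mul, Finset.card_univ,
    Nat.card_eq_fintype_card]

variable {t : G} {i : ℕ} (h : Fixity Ω t i)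
include h

theorem Fixity.exists_three (h3 : 3 ≤ i) (a b : Ω) : ∃ c, t • c = c ∧ c ≠ a ∧ c ≠ b := by
  obtain ⟨c, hc, hne⟩ := Set.exists_mem_notMem_of_ncard_lt_ncard
    (s := ({a, b} : Set Ω)) (t := MulAction.fixedBy Ω t)
    (by
      have h1 : fx Ω t = i := h.fix_t
      have h2 := Set.ncard_insert_le a ({b} : Set Ω)
      rw [Set.ncard_singleton] at h2
      rw [fx] at h1
      omega) (Set.toFinite _)
  simp only [Set.mem_insert_iff, Set.mem_singleton_iff, not_or] at hne
  exact ⟨c, hc, hne.1, hne.2⟩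

theorem Fixity.swap_commute {a b : Ω} (hab : a ≠ b) (ha : t • a = a) (hb : t • b = b) {u : G}
    (hua : u • a = b) (hub : u • b = a) : Commute u t := by
  have h1 := (h.swap_inverts hab hua hub ha hb).2
  rw [inv_eq_of_mul_eq_one_left h.mul_self] at h1
  exact mul_inv_eq_iff_eq_mul.1 h1

/-- With three fixed points the two-point stabilisers are 2-groups. -/
theorem Fixity.eq_one_of_odd {a b c : Ω} (hab : a ≠ b) (hac : a ≠ c) (hbc : b ≠ c) (hta : t • a = a)
    (htb : t • b = b) (htc : t • c = c) {x : G} (hxa : x • a = a) (hxb : x • b = b)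
    (hxo : Odd (orderOf x)) : x = 1 := by
  by_contra hx1
  have hxt : Commute x t := h.comm_two hab hxa hxb hta htb
  have hall : ∀ {p : Ω}, t • p = p → x • p = p := fun hp => h.fix_of_odd hxt hxo hp
  obtain ⟨u₁, h1a, h1b⟩ := (h.swap_conj hab).2.1
  obtain ⟨u₂, h2b, h2c⟩ := (h.swap_conj hbc).2.1
  have hu₁t := h.swap_commute hab hta htb h1a h1b
  have hu₂t := h.swap_commute hbc htb htc h2b h2c
  set w := u₁ * u₂ with hw
  have hwc : w • c = a := by rw [hw, mul_smul, h2c, h1b]
  have hwt : Commute w t := hu₁t.mul_left hu₂t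
  have hwx : Commute w x := by
    have e1 := (h.swap_inverts hab h1a h1b hxa hxb).2
    have e2 := (h.swap_inverts hbc h2b h2c hxb (hall htc)).2
    refine mul_inv_eq_iff_eq_mul.1 ?_
    calc w * x * w⁻¹ = u₁ * (u₂ * x * u₂⁻¹) * u₁⁻¹ := by rw [hw]; group
      _ = (u₁ * x * u₁⁻¹)⁻¹ := by rw [e2]; group
      _ = x := by rw [e1, inv_inv]
  obtain ⟨r, m, hm, hrm⟩ := Nat.exists_eq_pow_mul_and_not_dvd (orderOf_pos w).ne' 2 (by norm_num)
  have hodd : w ^ (2 ^ r) • c = c := by
    refine h.fix_of_odd (hwt.pow_left _) ?_ htc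
    refine Odd.of_dvd_nat (Nat.not_even_iff_odd.1 fun e => hm e.two_dvd) (orderOf_dvd_of_pow_eq_one ?_)
    rw [← pow_mul, ← hrm, pow_orderOf_eq_one]
  have heven : w ^ m • c = c := by
    set z := w ^ m with hz
    have hz2 : z ^ (2 ^ r) = 1 := by rw [hz, ← pow_mul, mul_comm, ← hrm, pow_orderOf_eq_one]
    have hxz : Commute x z := hwx.symm.pow_right m
    have hy2 : (x * z) ^ (2 ^ r) = x ^ (2 ^ r) := by rw [hxz.mul_pow, hz2, mul_one]
    have hx2 : x ^ (2 ^ r) ≠ 1 := fun e => hx1 (by
      have h1 := orderOf_dvd_of_pow_eq_one e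
      exact orderOf_eq_one_iff.1 (Nat.eq_one_of_dvd_coprimes
        ((Nat.coprime_two_right.2 hxo).pow_right r) dvd_rfl h1))
    have hsubt : MulAction.fixedBy Ω (x ^ (2 ^ r)) = MulAction.fixedBy Ω t :=
      (Set.eq_of_subset_of_ncard_le (fun p hp => pow_mem (show x ∈ stabilizer G p from hall hp) (2 ^ r))
        (le_of_eq ((h.cent _ (hxt.pow_left _) hx2).trans h.fix_t.symm))).symm
    have hsub : MulAction.fixedBy Ω (x * z) ⊆ MulAction.fixedBy Ω t := fun p hp => by
      rw [← hsubt, ← hy2]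
      exact pow_mem (show x * z ∈ stabilizer G p from hp) (2 ^ r)
    have hy1 : x * z ≠ 1 := fun e => hx2 (by rw [← hy2, e, one_pow])
    have heq := Set.eq_of_subset_of_ncard_le hsub
      (le_of_eq (h.fix_t.trans (h.cent _ (hxt.mul_left (hwt.pow_left m)) hy1).symm))
    have h1 : (x * z) • c = c := (show c ∈ MulAction.fixedBy Ω (x * z) by rw [heq]; exact htc)
    rw [hxz.eq, mul_smul, hall htc] at h1
    exact h1
  obtain ⟨A, B, hAB⟩ : IsCoprime (((2 ^ r : ℕ) : ℤ)) ((m : ℕ) : ℤ) :=
    Nat.isCoprime_iff_coprime.2 (Nat.Coprime.pow_left r (Nat.prime_two.coprime_iff_not_dvd.2 hm))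
  have h2 : w ∈ stabilizer G c := by
    have e : w = (w ^ (2 ^ r)) ^ A * (w ^ m) ^ B := by
      rw [← zpow_natCast, ← zpow_natCast, ← zpow_mul, ← zpow_mul, ← zpow_add, mul_comm _ A, mul_comm _ B,
        hAB, zpow_one]
    rw [e]
    exact mul_mem (zpow_mem (show w ^ (2 ^ r) ∈ stabilizer G c from hodd) A)
      (zpow_mem (show w ^ m ∈ stabilizer G c from heven) B)
  rw [mem_stabilizer_iff, hwc] at h2
  exact hac h2

/-- With three fixed points the centraliser is a 2-group. -/
theorem Fixity.isPGroup_centralizer (h3 : 3 ≤ i) :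
    IsPGroup 2 ↥(Subgroup.centralizer ({t} : Set G)) := by
  obtain ⟨a, ha, -, -⟩ := h.exists_three h3 (Classical.choice
    (show Nonempty Ω from ⟨h.exists_moved.choose⟩)) (h.exists_moved.choose)
  obtain ⟨b, hb, hba, -⟩ := h.exists_three h3 a a
  obtain ⟨c, hc, hca, hcb⟩ := h.exists_three h3 a b
  rintro ⟨g, hg⟩
  obtain ⟨r, m, hm, hrm⟩ := Nat.exists_eq_pow_mul_and_not_dvd (orderOf_pos g).ne' 2 (by norm_num)
  refine ⟨r, Subtype.ext ?_⟩
  have hgt : Commute (g ^ (2 ^ r)) t :=
    (show Commute g t from Subgroup.mem_centralizer_singleton_iff.1 hg).pow_left _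
  have ho : Odd (orderOf (g ^ (2 ^ r))) :=
    Odd.of_dvd_nat (Nat.not_even_iff_odd.1 fun e => hm e.two_dvd)
      (orderOf_dvd_of_pow_eq_one (by rw [← pow_mul, ← hrm, pow_orderOf_eq_one]))
  exact h.eq_one_of_odd hba.symm hca.symm hcb.symm ha hb hc (h.fix_of_odd hgt ho ha)
    (h.fix_of_odd hgt ho hb) ho

/-- In the fixed set of `t` the two-point stabilisers are the point stabilisers in `C(t)`. -/
theorem Fixity.stab_eq (h3 : 3 ≤ i) {a b : Ω} (hab : a ≠ b) (ha : t • a = a) (hb : t • b = b) :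
    stabilizer G a ⊓ Subgroup.centralizer ({t} : Set G) = stabilizer G a ⊓ stabilizer G b ∧
      Even i := by
  classical
  haveI : Fact (Nat.Prime 2) := ⟨Nat.prime_two⟩
  set C := Subgroup.centralizer ({t} : Set G) with hC
  set D := stabilizer G a ⊓ stabilizer G b with hD
  have hCp := h.isPGroup_centralizer h3
  have hDle : D ≤ stabilizer G a ⊓ C := fun d hd => ⟨hd.1,
    Subgroup.mem_centralizer_singleton_iff.2 (h.comm_two hab hd.1 hd.2 ha hb).eq⟩
  -- the orbit of `C` on the fixed set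
  have horb : MulAction.orbit C a = MulAction.fixedBy Ω t := by
    ext p
    constructor
    · rintro ⟨g, rfl⟩
      show t • (g : G) • a = (g : G) • a
      rw [smul_smul, ← Subgroup.mem_centralizer_singleton_iff.1 g.2, mul_smul, ha]
    · intro hp
      by_cases hpa : a = p
      · exact hpa ▸ MulAction.mem_orbit_self _
      obtain ⟨u, hua, hub⟩ := (h.swap_conj hpa).2.1
      exact ⟨⟨u, Subgroup.mem_centralizer_singleton_iff.2 (h.swap_commute hpa ha hp hua hub).eq⟩, hua⟩
  have hidx : Nat.card (MulAction.stabilizer C a) * i = Nat.card C := by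
    rw [← h.fix_t, fx, ← horb, ← Nat.card_coe_set_eq,
      Nat.card_congr (MulAction.orbitEquivQuotientStabilizer C a), ← Subgroup.index]
    exact (MulAction.stabilizer C a).card_mul_index
  obtain ⟨f, hf⟩ := IsPGroup.iff_card.1 hCp
  obtain ⟨m, -, hm⟩ := (Nat.dvd_prime_pow Nat.prime_two).1 (hf ▸ ⟨_, by rw [← hidx, mul_comm]⟩ : i ∣ 2 ^ f)
  have hieven : Even i := by
    rw [hm, Nat.even_pow]
    exact ⟨even_two, fun e => by rw [e, pow_zero] at hm; omega⟩
  refine ⟨(Subgroup.eq_of_le_of_card_ge hDle ?_).symm, hieven⟩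
  -- the point stabiliser has order `(n - 1) |D|` with `n - 1` odd
  have hn : Even (Nat.card Ω - i) := by
    rw [← (h.swap_conj hab).2.2]
    exact even_iff_two_dvd.2 (by
      have := orderOf_dvd_natCard (⟨t, Subgroup.mem_centralizer_singleton_iff.2 rfl⟩ :
        ↥(Subgroup.centralizer ({t} : Set G)))
      rwa [Subgroup.orderOf_mk, h.ord] at this)
  have hlt := h.lt
  have hodd : Odd (Nat.card Ω - 1) := by
    have hev : Even (Nat.card Ω) := by
      have := Even.add hn hieven
      rwa [Nat.sub_add_cancel hlt.le] at this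
    exact Nat.Even.sub_odd (by omega) hev odd_one
  have hH : Nat.card (stabilizer G a) = (Nat.card Ω - 1) * Nat.card D := by
    haveI := h.two
    haveI : IsPretransitive G Ω := isPretransitive_of_is_two_pretransitive
    refine Nat.eq_of_mul_eq_mul_left (show 0 < Nat.card Ω by omega) ?_
    rw [← mul_assoc, ← card_pairs_eq, ← h.card_pairs hab,
      ← (stabilizer G a).index_mul_card, index_stabilizer_of_transitive]
  have hX : IsPGroup 2 ↥(stabilizer G a ⊓ C) := hCp.to_le inf_le_right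
  obtain ⟨k, hk⟩ := IsPGroup.iff_card.1 hX
  have hdvd := Subgroup.card_dvd_of_le (inf_le_left : stabilizer G a ⊓ C ≤ stabilizer G a)
  rw [hH, hk] at hdvd
  rw [hk]
  exact Nat.le_of_dvd Nat.card_pos
    (((Nat.coprime_two_left.2 hodd).pow_left k).dvd_of_dvd_mul_left hdvd)

/-- There are at most two fixed points. -/
theorem Fixity.le_two : i ≤ 2 := by
  classical
  by_contra hi
  have h3 : 3 ≤ i := by omega
  obtain ⟨x₀, -⟩ := h.exists_moved
  obtain ⟨a, ha, -, -⟩ := h.exists_three h3 x₀ x₀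
  obtain ⟨b, hb, hba, -⟩ := h.exists_three h3 a a
  obtain ⟨-, hieven⟩ := h.stab_eq h3 hba.symm ha hb
  let f : {x : Ω // x ≠ a} → Subgroup G := fun x => stabilizer G a ⊓ stabilizer G (x : Ω)
  have hfib : ∀ x₀ : {x : Ω // x ≠ a},
      (Finset.univ.filter fun x => f x = f x₀).card = i - 1 := by
    intro x₀
    obtain ⟨g, hga, hgb⟩ := h.exists_map hba.symm (Ne.symm x₀.2)
    set t' := g * t * g⁻¹ with ht'
    have h' : Fixity Ω t' i := h.conj g
    have ha' : t' • a = a := by
      nth_rewrite 1 [← hga]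
      rw [ht', mul_smul, mul_smul, inv_smul_smul, ha, hga]
    have hx₀ : t' • (x₀ : Ω) = x₀ := by
      nth_rewrite 1 [← hgb]
      rw [ht', mul_smul, mul_smul, inv_smul_smul, hb, hgb]
    have hset : (Finset.univ.filter fun x => f x = f x₀) =
        Finset.univ.filter fun x : {x : Ω // x ≠ a} => t' • (x : Ω) = x := by
      refine Finset.filter_congr fun x _ => ⟨fun e => ?_, fun hx => ?_⟩
      · exact (show t' ∈ f x by rw [e]; exact ⟨ha', hx₀⟩).2
      · show stabilizer G a ⊓ stabilizer G (x : Ω) = stabilizer G a ⊓ stabilizer G (x₀ : Ω)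
        rw [← (h'.stab_eq h3 (Ne.symm x.2) ha' hx).1, (h'.stab_eq h3 (Ne.symm x₀.2) ha' hx₀).1]
    rw [hset, ← Fintype.card_subtype, ← Nat.card_eq_fintype_card, Nat.card_congr
      (Equiv.subtypeSubtypeEquivSubtypeInter (fun x : Ω => x ≠ a) (fun x => t' • x = x))]
    rw [← h'.fix_t, fx, ← Set.ncard_diff_singleton_of_mem (show a ∈ MulAction.fixedBy Ω t' from ha'),
      ← Nat.card_coe_set_eq]
    exact Nat.card_congr (Equiv.subtypeEquivRight fun x => ⟨fun h => ⟨h.2, h.1⟩, fun h => ⟨h.2, h.1⟩⟩)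
  have hcount := Finset.card_eq_sum_card_image f (Finset.univ : Finset {x : Ω // x ≠ a})
  rw [Finset.sum_congr rfl fun y hy => (by
    obtain ⟨x₀, -, rfl⟩ := Finset.mem_image.1 hy
    exact hfib x₀ :
      (Finset.univ.filter fun x => f x = y).card = i - 1)] at hcount
  rw [Finset.sum_const, smul_eq_mul, Finset.card_univ, Fintype.card_subtype_compl,
    Fintype.card_subtype_eq, ← Nat.card_eq_fintype_card] at hcount
  have hlt := h.lt
  have hdvd : i - 1 ∣ Nat.card ↥(Subgroup.centralizer ({t} : Set G)) := by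
    rw [(h.swap_conj hba).2.2, show Nat.card Ω - i = (Nat.card Ω - 1) - (i - 1) by omega]
    exact Nat.dvd_sub ⟨_, by rw [hcount, mul_comm]⟩ dvd_rfl
  haveI : Fact (Nat.Prime 2) := ⟨Nat.prime_two⟩
  obtain ⟨k, hk⟩ := IsPGroup.iff_card.1 (h.isPGroup_centralizer h3)
  have hodd : Odd (i - 1) := Nat.Even.sub_odd (by omega) hieven odd_one
  have := Nat.eq_one_of_dvd_coprimes ((Nat.coprime_two_left.2 hodd).pow_left k) (hk ▸ hdvd) dvd_rfl
  omega

/-- No element fixes three points, unless there is a regular normal subgroup. -/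
theorem Fixity.three_trivial (hno : NoRegular Ω G) {d : G} {a b c : Ω} (hab : a ≠ b) (hbc : b ≠ c)
    (hac : a ≠ c) (hda : d • a = a) (hdb : d • b = b) (hdc : d • c = c) : d = 1 := by
  classical
  by_contra hd1
  have hi := h.le_two
  have hthree : 3 ≤ fx Ω d := by
    have h1 : ({a, b, c} : Set Ω).ncard = 3 := Set.ncard_eq_three.2 ⟨a, b, c, hab, hac, hbc, rfl⟩
    rw [← h1]
    refine Set.ncard_le_ncard ?_ (Set.toFinite _)
    intro x hx
    simp only [Set.mem_insert_iff, Set.mem_singleton_iff] at hx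
    rcases hx with rfl | rfl | rfl <;> assumption
  -- no involution centralises `d`
  have hodd : Odd (Nat.card ↥(Subgroup.centralizer ({d} : Set G))) := by
    by_contra hev
    rw [Nat.not_odd_iff_even, even_iff_two_dvd] at hev
    haveI : Fact (Nat.Prime 2) := ⟨Nat.prime_two⟩
    obtain ⟨⟨s, hs⟩, hso⟩ := exists_prime_orderOf_dvd_card' 2 hev
    rw [Subgroup.orderOf_mk] at hso
    have h1 := (h.of_isConj (h.isConj_involution hso)).cent d
      (show Commute d s from (Subgroup.mem_centralizer_singleton_iff.1 hs).symm) hd1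
    omega
  -- the centraliser of `d` is transitive on its fixed points
  have hswap : ∀ {x y : Ω}, x ≠ y → d • x = x → d • y = y → ∃ u : G, u • x = y ∧ u • y = x ∧
      u * u = 1 ∧ u * d * u⁻¹ = d⁻¹ := fun {x y} hxy hx hy => by
    obtain ⟨u, h1, h2⟩ := (h.swap_conj hxy).2.1
    exact ⟨u, h1, h2, h.swap_inverts hxy h1 h2 hx hy⟩
  have horb : MulAction.orbit ↥(Subgroup.centralizer ({d} : Set G)) a = MulAction.fixedBy Ω d := by
    ext p
    constructor
    · rintro ⟨g, rfl⟩
      show d • (g : G) • a = (g : G) • a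
      rw [smul_smul, ← Subgroup.mem_centralizer_singleton_iff.1 g.2, mul_smul, hda]
    · intro hp
      by_cases hpa : a = p
      · exact hpa ▸ MulAction.mem_orbit_self _
      obtain ⟨z, hz, hza, hzp⟩ : ∃ z, d • z = z ∧ z ≠ a ∧ z ≠ p := by
        by_cases hbp : b = p
        · exact ⟨c, hdc, hac.symm, fun e => hbc (hbp.trans e.symm)⟩
        · exact ⟨b, hdb, hab.symm, hbp⟩
      obtain ⟨u, hua, huz, -, hu⟩ := hswap hza.symm hda hz
      obtain ⟨v, hvz, hvp, -, hv⟩ := hswap hzp hz hp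
      refine ⟨⟨v * u, Subgroup.mem_centralizer_singleton_iff.2 (mul_inv_eq_iff_eq_mul.1 ?_)⟩, ?_⟩
      · calc v * u * d * (v * u)⁻¹ = v * (u * d * u⁻¹) * v⁻¹ := by group
          _ = (v * d * v⁻¹)⁻¹ := by rw [hu]; group
          _ = d := by rw [hv, inv_inv]
      · show (v * u) • a = p
        rw [mul_smul, hua, hvz]
  have hfodd : Odd (fx Ω d) := by
    refine hodd.of_dvd_nat ⟨Nat.card (MulAction.stabilizer ↥(Subgroup.centralizer ({d} : Set G)) a), ?_⟩
    rw [fx, ← horb, ← Nat.card_coe_set_eq, Nat.card_congr (MulAction.orbitEquivQuotientStabilizer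
      ↥(Subgroup.centralizer ({d} : Set G)) a), ← Subgroup.index, mul_comm]
    exact (Subgroup.card_mul_index _).symm
  -- a swapper fixes a fixed point of `d`, so `i = 1`
  obtain ⟨u, hua, hub, hu2, hud⟩ := hswap hab hda hdb
  have hu1 : u ≠ 1 := fun e => hab (by rw [e, one_smul] at hua; exact hua)
  have hconj := (h.swap_conj hab).1 u hua hub
  have hpres : ∀ x : Ω, d • x = x → d • u • x = u • x := fun x hx => by
    have e : d * u = u * d⁻¹ := by
      calc d * u = (u * d * u⁻¹)⁻¹ * u := by rw [hud, inv_inv]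
        _ = u * d⁻¹ := by group
    rw [smul_smul, e, mul_smul, inv_smul_eq_iff.2 hx.symm]
  obtain ⟨c₀, hc₀d, hc₀u⟩ : ∃ x : Ω, d • x = x ∧ u • x = x := by
    haveI : Fact (Nat.Prime 2) := ⟨Nat.prime_two⟩
    let σ : Equiv.Perm {x : Ω // d • x = x} := Function.Involutive.toPerm
      (fun x => ⟨u • (x : Ω), hpres x x.2⟩) (fun x => Subtype.ext (by
        show u • u • (x : Ω) = x
        rw [smul_smul, hu2, one_smul]))
    obtain ⟨x, hx⟩ := Equiv.Perm.exists_fixed_point_of_prime (p := 2) (n := 1) (σ := σ) (by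
      rw [← Nat.card_eq_fintype_card, show Nat.card {x : Ω // d • x = x} = fx Ω d from
        Nat.card_coe_set_eq _]
      exact fun e => Nat.not_even_iff_odd.2 hfodd (even_iff_two_dvd.2 e)) (by
      rw [pow_one, sq]
      exact Equiv.ext fun x => Subtype.ext (by
        show u • u • (x : Ω) = x
        rw [smul_smul, hu2, one_smul]))
    exact ⟨(x : Ω), x.2, congrArg Subtype.val hx⟩
  have hu' := h.of_isConj hconj
  have hi1 : i = 1 := by
    have h1 : 1 ≤ i := by
      rw [← hu'.fix_t]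
      exact Nat.one_le_iff_ne_zero.2 (Set.ncard_ne_zero_of_mem
        (show c₀ ∈ MulAction.fixedBy Ω u from hc₀u) (Set.toFinite _))
    by_contra hne
    have hi2 : i = 2 := by omega
    obtain ⟨p, q, hpq, hfix⟩ := Set.ncard_eq_two.1 (h.fix_t.trans hi2 : (MulAction.fixedBy Ω t).ncard = 2)
    obtain ⟨g, hgp, hgq⟩ := h.exists_map hpq hab
    have hp : t • p = p := (show p ∈ MulAction.fixedBy Ω t by rw [hfix]; exact Or.inl rfl)
    have hq : t • q = q := (show q ∈ MulAction.fixedBy Ω t by rw [hfix]; exact Or.inr rfl)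
    have h2 := (h.conj g).cent d (h.comm_two hab hda hdb
      (by rw [← hgp, mul_smul, mul_smul, inv_smul_smul, hp])
      (by rw [← hgq, mul_smul, mul_smul, inv_smul_smul, hq])) hd1
    omega
  -- the involutions fixing `c₀` are `|D|` conjugates of `u`, all inverting `d`
  obtain ⟨a', ha'c, ha'd⟩ : ∃ a', a' ≠ c₀ ∧ d • a' = a' := by
    by_cases hac₀ : a = c₀
    · exact ⟨b, fun e => hab (hac₀.trans e.symm), hdb⟩
    · exact ⟨a, hac₀, hda⟩
  have hinv : ∀ v : G, IsConj t v → v • c₀ = c₀ → v * d * v⁻¹ = d⁻¹ := by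
    set D := stabilizer G c₀ ⊓ stabilizer G a' with hD
    let I : Type _ := {v : {s : G // IsConj t s} // (v : G) • c₀ = c₀}
    let φ : D → I := fun e => ⟨⟨(e : G) * u * (e : G)⁻¹, hconj.trans (isConj_iff.2 ⟨e, rfl⟩)⟩, by
      show ((e : G) * u * (e : G)⁻¹) • c₀ = c₀
      rw [mul_smul, mul_smul, inv_smul_eq_iff.2 (show (e : G) • c₀ = c₀ from e.2.1).symm, hc₀u]
      exact e.2.1⟩
    have hcomm : ∀ e : D, Commute (e : G) d := fun e => h.comm_two ha'c.symm e.2.1 e.2.2 hc₀d ha'd
    have hφ : Function.Injective φ := by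
      intro e f hef
      have h1 : (e : G) * u * (e : G)⁻¹ = f * u * (f : G)⁻¹ :=
        congrArg (fun v : I => (v.1 : G)) hef
      have hcu : Commute ((f : G)⁻¹ * e) u := by
        show (f : G)⁻¹ * e * u = u * ((f : G)⁻¹ * e)
        calc (f : G)⁻¹ * e * u = (f : G)⁻¹ * (e * u * (e : G)⁻¹) * e := by group
          _ = (f : G)⁻¹ * (f * u * (f : G)⁻¹) * e := by rw [h1]
          _ = _ := by group
      by_contra hne
      have hne1 : (f : G)⁻¹ * e ≠ 1 := fun e1 => hne (Subtype.ext (inv_mul_eq_one.1 e1).symm)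
      have h2 := hu'.cent _ hcu hne1
      have hmem : (f : G)⁻¹ * e ∈ D := mul_mem (inv_mem f.2) e.2
      have h3 : 2 ≤ fx Ω ((f : G)⁻¹ * e) := by
        rw [← Set.ncard_pair ha'c.symm]
        refine Set.ncard_le_ncard ?_ (Set.toFinite _)
        intro x hx
        simp only [Set.mem_insert_iff, Set.mem_singleton_iff] at hx
        rcases hx with rfl | rfl
        exacts [hmem.1, hmem.2]
      omega
    have hcard : Nat.card D = Nat.card I := by
      have hfib : ∀ x : Ω, Nat.card {v : {s : G // IsConj t s} // (v : G) • x = x} = Nat.card I := by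
        intro x
        haveI := h.two
        haveI : IsPretransitive G Ω := isPretransitive_of_is_two_pretransitive
        obtain ⟨g, hg⟩ := MulAction.exists_smul_eq G x c₀
        refine Nat.card_congr
          { toFun := fun s => ⟨⟨g * s.1.1 * g⁻¹, s.1.2.trans (isConj_iff.2 ⟨g, rfl⟩)⟩, ?_⟩
            invFun := fun s => ⟨⟨g⁻¹ * s.1.1 * g, s.1.2.trans (isConj_iff.2 ⟨g⁻¹, by rw [inv_inv]⟩)⟩, ?_⟩
            left_inv := fun s => Subtype.ext (Subtype.ext (by simp [mul_assoc]))
            right_inv := fun s => Subtype.ext (Subtype.ext (by simp [mul_assoc])) }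
        · show (g * s.1.1 * g⁻¹) • c₀ = c₀
          rw [← hg, mul_smul, mul_smul, inv_smul_smul, s.2]
        · show (g⁻¹ * s.1.1 * g) • x = x
          rw [mul_smul, mul_smul, hg, s.2, ← hg, inv_smul_smul]
      haveI := Fintype.ofFinite G
      have e : (Σ s : {s : G // IsConj t s}, {x : Ω // (s : G) • x = x}) ≃
          (Σ x : Ω, {v : {s : G // IsConj t s} // (v : G) • x = x}) :=
        { toFun := fun p => ⟨p.2.1, p.1, p.2.2⟩
          invFun := fun p => ⟨p.2.1, p.1, p.2.2⟩
          left_inv := fun _ => rfl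
          right_inv := fun _ => rfl }
      have e2 := Nat.card_congr e
      rw [Nat.card_sigma, Nat.card_sigma, Finset.sum_congr rfl fun s _ =>
          (show Nat.card {x : Ω // ((s : {s : G // IsConj t s}) : G) • x = x} = 1 by
            rw [← hi1, ← (h.of_isConj s.2).fix_t, fx, ← Nat.card_coe_set_eq]; rfl),
        Finset.sum_congr rfl fun x _ => hfib x, Finset.sum_const, Finset.sum_const, smul_eq_mul,
        smul_eq_mul, mul_one, Finset.card_univ, Finset.card_univ, ← Nat.card_eq_fintype_card,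
        ← Nat.card_eq_fintype_card] at e2
      have h4 := h.card_pairs ha'c.symm
      rw [h.card_conj, (h.swap_conj ha'c.symm).2.2, hi1, card_pairs_eq, e2, ← hD] at h4
      have hlt := h.lt
      refine Nat.eq_of_mul_eq_mul_left (Nat.mul_pos (show 0 < Nat.card Ω by omega)
        (show 0 < Nat.card Ω - 1 by omega)) ?_
      linear_combination -h4
    intro v hv hvc
    obtain ⟨e, he⟩ := ((Nat.bijective_iff_injective_and_card φ).2 ⟨hφ, hcard⟩).2 ⟨⟨v, hv⟩, hvc⟩
    have hv' : (e : G) * u * (e : G)⁻¹ = v := congrArg (fun v : I => (v.1 : G)) he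
    rw [← hv']
    calc (e : G) * u * (e : G)⁻¹ * d * ((e : G) * u * (e : G)⁻¹)⁻¹
        = e * (u * ((e : G)⁻¹ * (d * e)) * u⁻¹) * (e : G)⁻¹ := by group
      _ = e * d⁻¹ * (e : G)⁻¹ := by rw [← (hcomm e).eq, inv_mul_cancel_left, hud]
      _ = d⁻¹ := by rw [(hcomm e).inv_right.eq, mul_inv_cancel_right]
  -- so `u` is isolated
  have huo : orderOf u = 2 := hu'.ord
  have hiso : Cfsg.IsIsolatedInvolution u := by
    refine ⟨huo, fun g hg => ?_⟩
    by_contra hne
    set v := g * u * g⁻¹ with hv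
    have hvc₀ : v • c₀ = c₀ := by
      obtain ⟨x, hx⟩ := Set.ncard_eq_one.1 (hu'.fix_t.trans hi1 : (MulAction.fixedBy Ω u).ncard = 1)
      have hxc : c₀ = x := (show c₀ ∈ ({x} : Set Ω) by rw [← hx]; exact hc₀u)
      have h1 : v • c₀ ∈ MulAction.fixedBy Ω u := by
        show u • v • c₀ = v • c₀
        rw [smul_smul, hg.eq, mul_smul, hc₀u]
      rw [hx, ← hxc] at h1
      exact h1
    have hvd := hinv v (hconj.trans (isConj_iff.2 ⟨g, rfl⟩)) hvc₀
    have hv2 : v * v = 1 := by
      rw [hv, show g * u * g⁻¹ * (g * u * g⁻¹) = g * (u * u) * g⁻¹ by group, hu2]; group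
    have huv : Commute (u * v) d := mul_inv_eq_iff_eq_mul.1 (by
      calc u * v * d * (u * v)⁻¹ = u * (v * d * v⁻¹) * u⁻¹ := by group
        _ = (u * d * u⁻¹)⁻¹ := by rw [hvd]; group
        _ = d := by rw [hud, inv_inv])
    have huv2 : orderOf (u * v) = 2 := by
      refine orderOf_eq_prime ?_ fun e => hne ?_
      · rw [sq, show u * v * (u * v) = u * (v * u) * v by group, ← hg.eq,
          show u * (u * v) * v = (u * u) * (v * v) by group, hu2, hv2, one_mul]
      · rw [← inv_eq_of_mul_eq_one_right e, inv_eq_of_mul_eq_one_left hu2]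
    have h5 := orderOf_dvd_natCard (⟨u * v, Subgroup.mem_centralizer_singleton_iff.2 huv.eq⟩ :
      ↥(Subgroup.centralizer ({d} : Set G)))
    rw [Subgroup.orderOf_mk, huv2] at h5
    exact Nat.not_even_iff_odd.2 hodd (even_iff_two_dvd.2 h5)
  haveI := h.two
  haveI : IsPretransitive G Ω := isPretransitive_of_is_two_pretransitive
  obtain ⟨g, hg⟩ := MulAction.exists_smul_eq G c₀ a
  have hcen : u * g = g * u := by
    have h6 := Agent.ZStar.Main.commutator_mem_oddCore hiso g
    rw [oddCore_eq_bot h.two hno, Subgroup.mem_bot, mul_inv_eq_one, mul_inv_eq_iff_eq_mul] at h6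
    exact h6
  have hua' : u • a = a := by rw [← hg, smul_smul, hcen, mul_smul, hc₀u]
  exact hab (hua'.symm.trans hua)

end Cfsg.Agent.Involutions.ConstantFixity
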